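import Cfsg.Agent.Lib.BenderConsumers23.Basic
import Cfsg.Agent.Lib.RankOne.Basic
import Cfsg.Agent.Lib.PrimeGraph.SL2
import Cfsg.Agent.Lib.Linear.Simple
import Cfsg.Agent.Lib.Unitary.Simple
import Cfsg.Agent.Lib.Spectrum.EPPOPrimes
import Cfsg.Agent.Lib.LieTwisted.SuzukiStructure

/-!
# Consumers of the Bender-Suzuki theorem: the core-free quotient
-/

set_option autoImplicit false

namespace Cfsg.Agent.Lib.BenderConsumers23

open MulAction Cfsg.Agent.Lib.Involutions.StronglyEmbedded Cfsg.Agent.Lib.Involutions.Basic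
open Cfsg.Agent.Lib.BenderSuzuki Cfsg.Agent.Lib.RankOne.Basic

universe u

variable {G : Type u} [Group G] [Finite G] {H : Subgroup G}

/-- Modulo the odd core a strongly embedded subgroup stays strongly embedded and becomes core-free. -/
theorem quotient_oddCore (hH : Cfsg.IsStronglyEmbedded H) (h2 : TwoRank G) :
    Cfsg.IsStronglyEmbedded (H.map (QuotientGroup.mk' (Cfsg.oddCore G))) ∧
      TwoRank (G ⧸ Cfsg.oddCore G) ∧ (H.map (QuotientGroup.mk' (Cfsg.oddCore G))).normalCore = ⊥ := by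
  set π := QuotientGroup.mk' (Cfsg.oddCore G) with hπ
  have hO := oddCore_le hH h2
  have hsurj : Function.Surjective π := QuotientGroup.mk'_surjective _
  have hodd : Odd (Nat.card (Cfsg.oddCore G)) := ZStar.Elements.oddCore_odd
  have hker : ∀ x, π x = 1 ↔ x ∈ Cfsg.oddCore G := QuotientGroup.eq_one_iff
  have hinv : ∀ x : G, orderOf x = 2 → π x ≠ 1 := fun x hx h =>
    (odd_card_iff_no_invol _).1 hodd x ((hker x).1 h) hx
  have hcomap : (H.map π).comap π = H :=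
    Subgroup.comap_map_eq_self (le_of_eq_of_le (QuotientGroup.ker_mk' _) hO)
  have hmem : ∀ z : G, π z ∈ H.map π → z ∈ H := fun z hz => by
    rw [← hcomap]; exact hz
  refine ⟨⟨fun h => hH.1 ?_, ?_, ?_⟩, ?_, ?_⟩
  · rw [← hcomap, h, Subgroup.comap_top]
  · obtain ⟨x, hx⟩ := exists_prime_orderOf_dvd_card' (G := H) 2 (even_iff_two_dvd.1 hH.2.1)
    have hx2 : orderOf (x : G) = 2 := by rw [Subgroup.orderOf_coe, hx]
    have h1 : orderOf (π x) = 2 :=
      sq_eq_one_iff'.1 ⟨by rw [← map_mul, invol_mul_self hx2, map_one], hinv _ hx2⟩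
    have h2 : orderOf (π x) ∣ Nat.card ↥(H.map π) :=
      Subgroup.orderOf_dvd_natCard _ (Subgroup.mem_map_of_mem π x.2)
    rw [h1] at h2
    exact even_iff_two_dvd.2 h2
  · intro g' hg'
    obtain ⟨g, rfl⟩ := hsurj g'
    have hg : g ∉ H := fun h => hg' (Subgroup.mem_map_of_mem π h)
    refine Odd.of_dvd_nat (hH.2.2 g hg) ((Subgroup.card_dvd_of_le
      (fun y hy => ?_ : H.map π ⊓ (H.map π).map (MulAut.conj (π g)).toMonoidHom ≤
        (H ⊓ H.map (MulAut.conj g).toMonoidHom).map π)).trans (Subgroup.card_map_dvd _ _))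
    obtain ⟨y, rfl⟩ := hsurj y
    obtain ⟨⟨a, ha, he⟩, ⟨b, ⟨c, hc, rfl⟩, hb⟩⟩ := hy
    have hyH : y ∈ H := hmem y ⟨a, ha, he⟩
    have hyg : g⁻¹ * y * g ∈ H := by
      refine hmem _ ?_
      suffices h : π (g⁻¹ * y * g) = π c from h ▸ Subgroup.mem_map_of_mem π hc
      have hb' : π g * π c * (π g)⁻¹ = π y := by simpa [MulAut.conj_apply] using hb
      rw [map_mul, map_mul, map_inv, ← hb']; group
    refine Subgroup.mem_map_of_mem π ⟨hyH, g⁻¹ * y * g, hyg, ?_⟩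
    simp [MulAut.conj_apply, mul_assoc]
  · obtain ⟨x, y, hx, hy, hne, hxx, hyy, hxy⟩ := h2
    have hx2 := sq_eq_one_iff'.1 ⟨hxx, hx⟩
    have hy2 := sq_eq_one_iff'.1 ⟨hyy, hy⟩
    have hxy2 : orderOf (x * y) = 2 := by
      refine sq_eq_one_iff'.1 ⟨?_, fun h => hne ?_⟩
      · calc x * y * (x * y) = x * (y * x) * y := by group
          _ = x * (x * y) * y := by rw [← hxy]
          _ = x * x * (y * y) := by group
          _ = 1 := by rw [hxx, hyy, one_mul]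
      · rw [eq_inv_of_mul_eq_one_left h, invol_inv hy2]
    refine ⟨π x, π y, hinv x hx2, hinv y hy2, fun h => hinv _ hxy2 ?_, ?_, ?_, ?_⟩
    · rw [map_mul, h, ← map_mul, hyy, map_one]
    · rw [← map_mul, hxx, map_one]
    · rw [← map_mul, hyy, map_one]
    · rw [← map_mul, hxy, map_mul]
  · rw [eq_bot_iff]
    intro y hy
    obtain ⟨y, rfl⟩ := hsurj y
    have hn : ((H.map π).normalCore.comap π).Normal :=
      (Subgroup.normalCore_normal _).comap π
    have h1 : (H.map π).normalCore.comap π ≤ Cfsg.oddCore G :=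
      le_of_le_of_eq ((Subgroup.normal_le_normalCore (hN := hn)).2 fun z hz =>
        hmem z (Subgroup.normalCore_le _ hz)) (normalCore_eq_oddCore hH h2)
    exact (hker y).2 (h1 hy)

/-- A group acts faithfully on the cosets of a core-free subgroup. -/
theorem faithfulSMul_quotient (hc : H.normalCore = ⊥) : FaithfulSMul G (G ⧸ H) := by
  refine ⟨fun {x y} h => ?_⟩
  have h1 : MulAction.toPermHom G (G ⧸ H) x = MulAction.toPermHom G (G ⧸ H) y := Equiv.ext h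
  refine (MonoidHom.ker_eq_bot_iff _).1 ?_ h1
  rw [← Subgroup.normalCore_eq_ker, hc]

/-- In the core-free case a strongly embedded subgroup is the stabiliser of a good set-up. -/
theorem good (hP : PropPartOne.{u}) (hMain : PropMain.{u, u}) (hH : Cfsg.IsStronglyEmbedded H)
    (h2 : TwoRank G) (hc : H.normalCore = ⊥) :
    ∃ (t : G) (Q : Subgroup G), Hyp G (G ⧸ H) ((1 : G) : G ⧸ H) t Q ∧
      Good G (G ⧸ H) ((1 : G) : G ⧸ H) t Q := by
  obtain ⟨t, Q, hS⟩ := hP G H hH h2 hc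
  have hh : Hyp G (G ⧸ H) ((1 : G) : G ⧸ H) t Q := ⟨hS, faithfulSMul_quotient hc, h2⟩
  exact ⟨t, Q, hh, hMain G (G ⧸ H) _ t Q hh⟩

/-- The possible socles. -/
def Target (L : Type u) [Group L] : Prop :=
  (∃ (F : Type) (_ : Field F) (_ : Fintype F) (n : ℕ), 2 ≤ n ∧ Fintype.card F = 2 ^ n ∧
      Nonempty (L ≃* Matrix.ProjectiveSpecialLinearGroup (Fin 2) F)) ∨
    Cfsg.Lie.IsoSuzuki L ∨
    (∃ (F : Type) (_ : Field F) (_ : Fintype F) (n : ℕ), 2 ≤ n ∧ Fintype.card F = (2 ^ n) ^ 2 ∧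
      Nonempty (L ≃* Cfsg.PSU 3 F (2 ^ n)))

theorem Target.congr {L L' : Type u} [Group L] [Group L'] (e : L' ≃* L) (h : Target L) :
    Target L' := by
  rcases h with ⟨F, i, j, n, hn, hF, ⟨f⟩⟩ | ⟨F, i, j, m, hm, hF, ⟨f⟩⟩ | ⟨F, i, j, n, hn, hF, ⟨f⟩⟩
  · exact .inl ⟨F, i, j, n, hn, hF, ⟨e.trans f⟩⟩
  · exact .inr (.inl ⟨F, i, j, m, hm, hF, ⟨e.trans f⟩⟩)
  · exact .inr (.inr ⟨F, i, j, n, hn, hF, ⟨e.trans f⟩⟩)

theorem Target.of_good {Ω : Type u} [MulAction G Ω] {a : Ω} {t : G} {Q : Subgroup G}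
    (h : Good G Ω a t Q) :
    ∃ L : Subgroup G, L.Normal ∧ Odd L.index ∧ Q ≤ L ∧ Target L := by
  obtain ⟨-, L, hn, ho, hQ, -, hcase⟩ := h
  refine ⟨L, hn, ho, hQ, ?_⟩
  rcases hcase with ⟨-, -, F, i, j, hF, ⟨n, hn2, hq⟩, hiso⟩ | ⟨-, -, hsz⟩ |
    ⟨-, -, -, F, i, j, n, hn2, -, hF, hiso⟩
  · exact .inl ⟨F, i, j, n, hn2, hF.trans hq, hiso⟩
  · exact .inr (.inl hsz)
  · exact .inr (.inr ⟨F, i, j, n, hn2, hF, hiso⟩)

theorem isSimpleGroup_isoSuzuki {L : Type u} [Group L] (h : Cfsg.Lie.IsoSuzuki L) :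
    IsSimpleGroup L := by
  obtain ⟨F, i, j, m, hm, hF, ⟨e⟩⟩ := h
  have h : LieTwisted.Suzuki.IsSzField F m := ⟨hF⟩
  have := h.isSimple hm
  exact (e.trans (LieTwisted.Suzuki.szEquiv h hm).symm).isSimpleGroup

theorem Target.isSimpleGroup {L : Type u} [Group L] (h : Target L) : IsSimpleGroup L := by
  rcases h with ⟨F, i, j, n, hn, hF, ⟨e⟩⟩ | h | ⟨F, i, j, n, hn, hF, ⟨e⟩⟩
  · have h4 : 4 ≤ Fintype.card F := by
      rw [hF]; calc 4 = 2 ^ 2 := rfl
        _ ≤ 2 ^ n := Nat.pow_le_pow_right (by norm_num) hn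
    have := Linear.isSimpleGroup_PSL (F := F) (le_refl 2) (fun _ => by rw [Nat.card_eq_fintype_card]; exact h4)
    exact e.isSimpleGroup
  · exact isSimpleGroup_isoSuzuki h
  · have h2 : 2 ^ 2 ≤ 2 ^ n := Nat.pow_le_pow_right (by norm_num) hn
    have := Unitary.isSimpleGroup_PSU (F := F) hF (n := 3) le_rfl (fun h => by omega)
    exact e.isSimpleGroup

end Cfsg.Agent.Lib.BenderConsumers23
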