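import Cfsg.Prelude.Def_ClassificationStages
import Cfsg.Agent.Lib.BenderConsumers23.Structure

/-!
# Consumers of the Bender-Suzuki theorem: simple groups with a strongly embedded subgroup
-/

set_option autoImplicit false

namespace Cfsg.Agent.Lib.BenderConsumers23

open MulAction Cfsg.Agent.Lib.Involutions.StronglyEmbedded Cfsg.Agent.Lib.Involutions.Basic
open Cfsg.Agent.Lib.BenderSuzuki Cfsg.Agent.Lib.RankOne.Basic

universe u

variable {G : Type u} [Group G] [Finite G] {H : Subgroup G}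

theorem even_card_of_stronglyEmbedded (hH : Cfsg.IsStronglyEmbedded H) : 2 ∣ Nat.card G :=
  (even_iff_two_dvd.1 hH.2.1).trans (Subgroup.card_subgroup_dvd_card H)

theorem oddCore_eq_bot [IsSimpleGroup G] (hH : Cfsg.IsStronglyEmbedded H) :
    Cfsg.oddCore G = ⊥ := by
  refine (Subgroup.Normal.eq_bot_or_eq_top (inferInstance : (Cfsg.oddCore G).Normal)).resolve_right
    fun h => ?_
  have hodd : Odd (Nat.card (Cfsg.oddCore G)) := ZStar.Elements.oddCore_odd
  rw [h, Subgroup.card_top] at hodd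
  exact Nat.not_even_iff_odd.2 hodd (even_iff_two_dvd.2 (even_card_of_stronglyEmbedded hH))

theorem twoRank_of_simple [IsSimpleGroup G] (hna : ∃ a b : G, a * b ≠ b * a)
    (hH : Cfsg.IsStronglyEmbedded H) : TwoRank G := by
  by_contra h
  obtain ⟨t, ht⟩ := exists_prime_orderOf_dvd_card' (G := G) 2 (even_card_of_stronglyEmbedded hH)
  have h1 := sup_centralizer_of_iso (iso_of_not_twoRank h ht)
  rw [oddCore_eq_bot hH, bot_sup_eq, Subgroup.centralizer_eq_top_iff_subset, Set.singleton_subset_iff] at h1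
  obtain ⟨a, b, hab⟩ := hna
  rcases Subgroup.Normal.eq_bot_or_eq_top (inferInstance : (Subgroup.center G).Normal) with hb | htop
  · rw [hb] at h1
    exact invol_ne_one ht h1
  · exact hab (Subgroup.mem_center_iff.1 (htop ▸ Subgroup.mem_top b) a)

theorem normalCore_eq_bot [IsSimpleGroup G] (hH : Cfsg.IsStronglyEmbedded H) : H.normalCore = ⊥ := by
  refine (Subgroup.Normal.eq_bot_or_eq_top H.normalCore_normal).resolve_right fun h => hH.1 ?_
  exact top_le_iff.1 (h ▸ H.normalCore_le)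

/-- A simple group with a strongly embedded subgroup is one of the three families, and the
subgroup is the point stabiliser of a rank-one set-up whose regular subgroup is a Sylow subgroup. -/
theorem simple_case [IsSimpleGroup G] (hP : PropPartOne.{u}) (hMain : PropMain.{u, u})
    (hna : ∃ a b : G, a * b ≠ b * a) (hH : Cfsg.IsStronglyEmbedded H) :
    Target G ∧ ∃ (t : G) (Q : Subgroup G), Cfsg.IsRankOneSetup G (G ⧸ H) ((1 : G) : G ⧸ H) t Q ∧
      ∃ S : Sylow 2 G, (S : Subgroup G) = Q := by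
  obtain ⟨t, Q, hh, hg⟩ := good hP hMain hH (twoRank_of_simple hna hH) (normalCore_eq_bot hH)
  have hS := hh.setup
  obtain ⟨L, hn, -, hQL, hT⟩ := Target.of_good hg
  have hQ : Q ≠ ⊥ := fun h => by
    have := hS.even_card
    rw [h, Subgroup.card_bot] at this
    exact Nat.not_even_one this
  have hL : L = ⊤ := (Subgroup.Normal.eq_bot_or_eq_top hn).resolve_left
    fun h => hQ (le_bot_iff.1 (h ▸ hQL))
  subst hL
  refine ⟨hT.congr Subgroup.topEquiv.symm, t, Q, hS, ?_⟩
  haveI : Fact (Nat.Prime 2) := ⟨Nat.prime_two⟩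
  refine ⟨hg.1.toSylow ?_, rfl⟩
  have hst : stabilizer G ((1 : G) : G ⧸ H) = H := MulAction.stabilizer_quotient H
  have hcard : Nat.card G = Nat.card Q * Nat.card (twoStab G ((1 : G) : G ⧸ H) t) *
      (Nat.card Q + 1) := by
    rw [← card_stab hS, hst, ← card_omega hS, ← Subgroup.index_eq_card, Subgroup.card_mul_index]
  intro h2
  have h3 : Nat.card Q * Q.index = Nat.card Q *
      (Nat.card (twoStab G ((1 : G) : G ⧸ H) t) * (Nat.card Q + 1)) := by
    rw [Subgroup.card_mul_index, hcard, mul_assoc]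
  rw [Nat.eq_of_mul_eq_mul_left Nat.card_pos h3] at h2
  rcases Nat.prime_two.dvd_mul.1 h2 with h | h
  · exact Nat.not_even_iff_odd.2 hS.odd_card (even_iff_two_dvd.2 h)
  · exact Nat.not_even_iff_odd.2 (hS.even_card.add_one) (even_iff_two_dvd.2 h)

theorem na_of_not_comm (hG : ¬ IsMulCommutative G) : ∃ a b : G, a * b ≠ b * a := by
  by_contra h
  push Not at h
  exact hG ⟨⟨h⟩⟩

/-- S1792. -/
theorem row1792 [IsSimpleGroup G] (hP : PropPartOne.{u}) (hMain : PropMain.{u, u})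
    (hG : ¬ IsMulCommutative G) (M : Subgroup G) (hmax : IsCoatom M)
    (hM : Cfsg.IsStronglyPEmbedded 2 M) :
    Target G ∧ ∃ S : Sylow 2 G, M = Subgroup.normalizer ((S : Subgroup G) : Set G) := by
  obtain ⟨hT, t, Q, hS, S, hSQ⟩ :=
    simple_case hP hMain (na_of_not_comm hG) (isStronglyEmbedded_of_sPE hM)
  have hst : stabilizer G ((1 : G) : G ⧸ M) = M := MulAction.stabilizer_quotient M
  refine ⟨hT, S, ((hmax.le_iff.1 ?_).resolve_left fun htop => ?_).symm⟩
  · intro m hm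
    rw [hSQ, Subgroup.mem_normalizer_iff]
    refine fun x => ⟨fun hx => hS.conj_mem m (hst.symm ▸ hm) x hx, fun hx => ?_⟩
    simpa [mul_assoc] using hS.conj_mem m⁻¹ (hst.symm ▸ M.inv_mem hm) _ hx
  · rw [hSQ, Subgroup.normalizer_eq_top_iff] at htop
    rcases Subgroup.Normal.eq_bot_or_eq_top htop with h | h
    · have := hS.even_card
      rw [h, Subgroup.card_bot] at this
      exact Nat.not_even_one this
    · exact hS.not_mem (hS.le (h ▸ Subgroup.mem_top t))

/-- S2027. -/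
theorem row2027 [IsSimpleGroup G] (hP : PropPartOne.{u}) (hMain : PropMain.{u, u})
    (hG : ¬ IsMulCommutative G) (M : Subgroup G) (hmax : IsCoatom M)
    (hM : Cfsg.IsStronglyPEmbedded 2 M) : Cfsg.IsDoublyTransitiveSuzukiType M := by
  have hH := isStronglyEmbedded_of_sPE hM
  obtain ⟨-, t, Q, hS, S, hSQ⟩ := simple_case hP hMain (na_of_not_comm hG) hH
  have hst : stabilizer G ((1 : G) : G ⧸ M) = M := MulAction.stabilizer_quotient M
  have hN : Subgroup.normalizer (M : Set G) = M := by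
    refine (hmax.le_iff.1 Subgroup.le_normalizer).resolve_left fun h => ?_
    rcases Subgroup.Normal.eq_bot_or_eq_top (Subgroup.normalizer_eq_top_iff.1 h) with h | h
    · have := hH.2.1
      rw [h, Subgroup.card_bot] at this
      exact Nat.not_even_one this
    · exact hH.1 h
  have hconj : ∀ g₁ g₂ : G, M.map (MulAut.conj g₁).toMonoidHom = M.map (MulAut.conj g₂).toMonoidHom ↔
      (g₁ : G ⧸ M) = g₂ := by
    intro g₁ g₂
    rw [QuotientGroup.eq]
    constructor
    · intro h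
      have h' : g₁⁻¹ * g₂ ∈ Subgroup.normalizer (M : Set G) := by
        rw [Subgroup.mem_normalizer_iff]
        intro x
        have hx : ∀ (g y : G), y ∈ M.map (MulAut.conj g).toMonoidHom ↔ g⁻¹ * y * g ∈ M := fun g y =>
          mem_conj_iff
        have := congrArg (fun K : Subgroup G => g₂ * x * g₂⁻¹ ∈ K) h
        simp only [hx, eq_iff_iff] at this
        have e1 : g₁⁻¹ * (g₂ * x * g₂⁻¹) * g₁ = g₁⁻¹ * g₂ * x * (g₁⁻¹ * g₂)⁻¹ := by group
        have e2 : g₂⁻¹ * (g₂ * x * g₂⁻¹) * g₂ = x := by group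
        rw [e1, e2] at this
        exact this.symm
      rwa [hN] at h'
    · intro h
      ext y
      rw [mem_conj_iff, mem_conj_iff]
      have e1 : g₂⁻¹ * y * g₂ = (g₁⁻¹ * g₂)⁻¹ * (g₁⁻¹ * y * g₁) * (g₁⁻¹ * g₂) := by group
      rw [e1, Subgroup.mul_mem_cancel_right _ h, Subgroup.mul_mem_cancel_left _ (M.inv_mem h)]
  have hcomp : ∀ m g : G, (M.map (MulAut.conj g).toMonoidHom).map (MulAut.conj m).toMonoidHom =
      M.map (MulAut.conj (m * g)).toMonoidHom := by
    intro m g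
    rw [Subgroup.map_map]
    congr 1
    ext x
    simp [MulAut.conj_apply, mul_assoc]
  have hne : ∀ g : G, M.map (MulAut.conj g).toMonoidHom ≠ M ↔ (g : G ⧸ M) ≠ ((1 : G) : G ⧸ M) := by
    intro g
    have h1 : M.map (MulAut.conj (1 : G)).toMonoidHom = M := by
      rw [map_one]; exact Subgroup.map_id M
    rw [ne_eq, ne_eq, ← hconj g 1, h1]
  have ht : M.map (MulAut.conj t).toMonoidHom ≠ M := by
    rw [hne]
    intro h
    apply hS.not_mem
    rw [mem_stabilizer_iff, MulAction.Quotient.smul_coe, smul_eq_mul, mul_one]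
    exact h
  have hD : ∀ n : G, n ∈ Subgroup.normalizer ((M.map (MulAut.conj t).toMonoidHom : Subgroup G) : Set G) ↔
      n ∈ stabilizer G (t • ((1 : G) : G ⧸ M)) := by
    intro n
    rw [mem_stabilizer_iff, MulAction.Quotient.smul_coe, MulAction.Quotient.smul_coe, smul_eq_mul,
      smul_eq_mul, mul_one, ← hconj, ← hcomp n t, Subgroup.mem_normalizer_iff]
    constructor
    · intro h
      ext y
      rw [mem_conj_iff]
      have := h (n⁻¹ * y * n)
      rwa [show n * (n⁻¹ * y * n) * n⁻¹ = y by group] at this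
    · intro h y
      conv_rhs => rw [← h]
      rw [mem_conj_iff (g := n), show n⁻¹ * (n * y * n⁻¹) * n = y by group]
  refine ⟨hN, ⟨t, ht⟩, fun g₁ g₂ h1 h2 => ?_, t, ht, Q, ?_, ?_, ?_, ?_, ?_, ⟨S, hSQ.le⟩, fun g₁ g₂ h1 h2 => ?_⟩
  · obtain ⟨x, hx, he⟩ := Q_trans hS ((hne g₁).1 h1) ((hne g₂).1 h2)
    refine ⟨x, hst ▸ hS.le hx, ?_⟩
    rw [hcomp, hconj]
    exact he
  · exact fun x hx => hst ▸ hS.le hx
  · refine ⟨fun x hx m => ?_⟩
    exact hS.conj_mem m (hst.symm ▸ m.2) x hx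
  · rw [eq_bot_iff]
    rintro x ⟨hx, -, hn⟩
    have h := hS.inf_eq_bot
    rw [Subgroup.eq_bot_iff_forall] at h
    exact h x ⟨hx, (hD x).1 hn⟩
  · have h := hS.sup_eq
    rw [hst] at h
    convert h using 3
    ext x
    exact hD x
  · haveI : Fact (Nat.Prime 2) := ⟨Nat.prime_two⟩
    rw [← hSQ]
    exact S.isPGroup'.isNilpotent
  · obtain ⟨x, he, hu⟩ := Q_existsUnique hS ((hne g₁).1 h1) ((hne g₂).1 h2)
    refine ⟨x, by simp only [hcomp, hconj]; exact he, fun y hy => hu y ?_⟩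
    simp only [hcomp, hconj] at hy
    exact hy

/-- S0222. -/
theorem row0222 [IsSimpleGroup G] (hP : PropPartOne.{u}) (hMain : PropMain.{u, u})
    (hna : ∃ a b : G, a * b ≠ b * a) (H : Subgroup G) (hH : Cfsg.IsStronglyEmbedded H) :
    (∃ (F : Type) (_ : Field F) (_ : Fintype F), CharP F 2 ∧ 4 ≤ Fintype.card F ∧ Nonempty (G ≃* Matrix.ProjectiveSpecialLinearGroup (Fin 2) F)) ∨ Cfsg.IsSuzuki G ∨ (∃ (F : Type) (_ : Field F) (_ : Fintype F) (q : ℕ), Fintype.card F = q ^ 2 ∧ Even q ∧ 4 ≤ q ∧ Nonempty (G ≃* Cfsg.PSU 3 F q)) := by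
  obtain ⟨hT, -⟩ := simple_case hP hMain hna hH
  rcases hT with ⟨F, i, j, n, hn, hF, e⟩ | ⟨F, i, j, m, hm, hF, ⟨e⟩⟩ | ⟨F, i, j, n, hn, hF, e⟩
  · exact .inl ⟨F, i, j, charP_of_card_eq_prime_pow (f := n) (by rw [hF]),
      hF ▸ (Nat.pow_le_pow_right (by norm_num : 0 < 2) hn : 2 ^ 2 ≤ 2 ^ n), e⟩
  · refine .inr (.inl ⟨inferInstance, m, hm, ?_⟩)
    rw [Nat.card_congr e.toEquiv, Spectrum.EPPOPrimes.card_sz F hm hF, hF]
  · exact .inr (.inr ⟨F, i, j, 2 ^ n, hF, by rw [Nat.even_pow]; exact ⟨even_two, by omega⟩,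
      (Nat.pow_le_pow_right (by norm_num) hn : 2 ^ 2 ≤ 2 ^ n), e⟩)

end Cfsg.Agent.Lib.BenderConsumers23
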