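import Cfsg.Prelude.Def_EvenType
import Cfsg.Prelude.Def_Involutions
import Cfsg.Prelude.Def_LieRecognition
import Cfsg.Agent.Lib.BenderSuzuki.Interface
import Cfsg.Agent.Lib.Fusion.Swappers
import Cfsg.Agent.Lib.K41.Basic
import Cfsg.Agent.Lib.ZStar.RankOne
import Cfsg.Agent.Lib.ZStar.UniqueCase
import Cfsg.Agent.Lib.ZStar.Elements
import Cfsg.Agent.Lib.Cores.Basic

/-!
# Consumers of the Bender-Suzuki theorem: the common layer

Part I is used through `PropPartOne`, part II through `BenderSuzuki.PropMain`.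
-/

set_option autoImplicit false

namespace Cfsg.Agent.Lib.BenderConsumers23

open MulAction Cfsg.Agent.Lib.Involutions.StronglyEmbedded Cfsg.Agent.Lib.Involutions.Basic
open Cfsg.Agent.Lib.BenderSuzuki

universe u

/-- Part I: a core-free strongly embedded subgroup of a group with commuting involutions is the point
stabiliser of a split rank-one set-up. -/
def PropPartOne.{w} : Prop :=
  ∀ (G : Type w) [Group G] [Finite G] (H : Subgroup G), Cfsg.IsStronglyEmbedded H → TwoRank G →
    H.normalCore = ⊥ →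
    ∃ (t : G) (Q : Subgroup G), Cfsg.IsRankOneSetup G (G ⧸ H) ((1 : G) : G ⧸ H) t Q

variable {G : Type u} [Group G] [Finite G] {H : Subgroup G}

theorem sq_eq_one_iff' {x : G} : x * x = 1 ∧ x ≠ 1 ↔ orderOf x = 2 :=
  ⟨fun h => orderOf_eq_prime (by rw [pow_two]; exact h.1) h.2,
    fun h => ⟨invol_mul_self h, invol_ne_one h⟩⟩

/-- A strongly `2`-embedded subgroup is strongly embedded. -/
theorem isStronglyEmbedded_of_sPE (hM : Cfsg.IsStronglyPEmbedded 2 H) :
    Cfsg.IsStronglyEmbedded H := by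
  haveI : Fact (Nat.Prime 2) := ⟨Nat.prime_two⟩
  obtain ⟨hdvd, hne, P, hP⟩ := hM
  have hPH := K41.sylow_le_of_core_le hdvd hP
  have hPcard : 2 ∣ Nat.card ↥(P : Subgroup G) := P.dvd_card_of_dvd_card hdvd
  obtain ⟨S⟩ := (inferInstance : Nonempty (Sylow 2 H))
  have h2H : 2 ∣ Nat.card H := hPcard.trans (Subgroup.card_dvd_of_le hPH)
  have hS : (S : Subgroup H) ≠ ⊥ := fun h => by
    have := S.dvd_card_of_dvd_card h2H
    rw [h, Subgroup.card_bot] at this
    omega
  refine (isStronglyEmbedded_iff_normalizer hne S hS).2 fun X hX hX1 => ?_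
  exact K41.normalizer_le_of_sE ⟨hdvd, hne, P, hP⟩ (Subgroup.map_subtype_le X)
    ((S.isPGroup'.to_le hX).map _)
    (fun h => hX1 ((Subgroup.map_eq_bot_iff_of_injective _ H.subtype_injective).1 h))

/-- The normal core of a strongly embedded subgroup has odd order. -/
theorem odd_normalCore (hH : Cfsg.IsStronglyEmbedded H) : Odd (Nat.card ↥H.normalCore) := by
  obtain ⟨g, hg⟩ : ∃ g : G, g ∉ H := by
    by_contra h
    push Not at h
    exact hH.1 ((Subgroup.eq_top_iff' H).2 h)
  refine (odd_card_iff_no_invol _).2 fun t ht h2 => hg ?_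
  exact mem_of_conj_mem hH h2 (H.normalCore_le ht)
    (H.normalCore_le ((Subgroup.normalCore_normal H).conj_mem t ht g))

theorem normalCore_le_oddCore (hH : Cfsg.IsStronglyEmbedded H) :
    H.normalCore ≤ Cfsg.oddCore G :=
  ZStar.Elements.le_oddCore (odd_normalCore hH)

/-- With two commuting involutions the odd core lies in every strongly embedded subgroup. -/
theorem oddCore_le (hH : Cfsg.IsStronglyEmbedded H) (h2 : TwoRank G) :
    Cfsg.oddCore G ≤ H := by
  obtain ⟨x, y, hx, hy, hne, hxx, hyy, hxy⟩ := h2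
  obtain ⟨g, hg⟩ := exists_conj_mem hH (sq_eq_one_iff'.1 ⟨hxx, hx⟩)
  set e := MulAut.conj g
  have hex : orderOf (e x) = 2 := by rw [e.orderOf_eq]; exact sq_eq_one_iff'.1 ⟨hxx, hx⟩
  have hey : orderOf (e y) = 2 := by rw [e.orderOf_eq]; exact sq_eq_one_iff'.1 ⟨hyy, hy⟩
  have hc : e x * e y = e y * e x := by rw [← map_mul, hxy, map_mul]
  have hexH : e x ∈ H := hg
  have heyH : e y ∈ H :=
    centralizer_le hH hex hexH (Subgroup.mem_centralizer_singleton_iff.2 hc.symm)
  have hexy : orderOf (e x * e y) = 2 := by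
    refine sq_eq_one_iff'.1 ⟨?_, fun h => hne (e.injective ?_)⟩
    · rw [← map_mul, ← map_mul, ← map_one e]
      congr 1
      calc x * y * (x * y) = x * (y * x) * y := by group
        _ = x * (x * y) * y := by rw [← hxy]
        _ = x * x * (y * y) := by group
        _ = 1 := by rw [hxx, hyy, one_mul]
    · rw [eq_inv_of_mul_eq_one_left h, invol_inv hey]
  have hX : ∀ w : G, ∀ z ∈ Cfsg.oddCore G, w * z * w⁻¹ ∈ Cfsg.oddCore G := fun w z hz =>
    Subgroup.Normal.conj_mem inferInstance z hz w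
  have hfix : ∀ w z : G, w * z * w⁻¹ = z → z ∈ Subgroup.centralizer ({w} : Set G) := fun w z h =>
    Subgroup.mem_centralizer_singleton_iff.2 (mul_inv_eq_iff_eq_mul.1 h).symm
  exact RankOne.Involution.le_of_four_group ZStar.Elements.oddCore_odd (invol_mul_self hex)
    (invol_mul_self hey) hc (hX _) (hX _)
    (fun z _ h => centralizer_le hH hex hexH (hfix _ _ h))
    (fun z _ h => centralizer_le hH hey heyH (hfix _ _ h))
    (fun z _ h => centralizer_le hH hexy (mul_mem hexH heyH) (hfix _ _ h))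

theorem normalCore_eq_oddCore (hH : Cfsg.IsStronglyEmbedded H) (h2 : TwoRank G) :
    H.normalCore = Cfsg.oddCore G :=
  le_antisymm (normalCore_le_oddCore hH) (Subgroup.normal_le_normalCore.2 (oddCore_le hH h2))

/-- Without two commuting involutions an involution is the only one of its centraliser. -/
theorem eq_of_not_twoRank (h : ¬ TwoRank G) {x y : G} (hx : orderOf x = 2) (hy : orderOf y = 2)
    (hc : x * y = y * x) : x = y := by
  by_contra hne
  exact h ⟨x, y, invol_ne_one hx, invol_ne_one hy, hne, invol_mul_self hx, invol_mul_self hy, hc⟩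

theorem iso_of_not_twoRank (h : ¬ TwoRank G) {t : G} (ht : orderOf t = 2) :
    ZStar.Reduction.Iso t := by
  refine ⟨ht, fun g => ?_⟩
  set t' := g * t * g⁻¹ with ht'
  have ho : orderOf t' = 2 := (orderOf_conj_eq g t).trans ht
  have hp : t * g * t⁻¹ * g⁻¹ = t * t' := by rw [invol_inv ht, ht']; group
  rw [hp, ← Nat.not_even_iff_odd]
  clear_value t'
  rintro ⟨m, hm⟩
  set z := (t * t') ^ m
  have hpos := orderOf_pos (t * t')
  have hz : orderOf z = 2 := by
    refine sq_eq_one_iff'.1 ⟨by rw [← pow_add, ← hm, pow_orderOf_eq_one],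
      pow_ne_one_of_lt_orderOf (by omega) (by omega)⟩
  have hconj : ∀ s : G, s * (t * t') * s⁻¹ = (t * t')⁻¹ → s * z = z * s := by
    intro s hs
    have : s * z * s⁻¹ = z := by
      rw [← conj_pow, hs, inv_pow, invol_inv hz]
    exact mul_inv_eq_iff_eq_mul.1 this
  have hinv : (t * t')⁻¹ = t' * t := by
    calc (t * t')⁻¹ = t'⁻¹ * t⁻¹ := mul_inv_rev t t'
      _ = t' * t := by rw [invol_inv ho, invol_inv ht]
  have h1 : z = t := eq_of_not_twoRank h hz ht (hconj t (by
    rw [invol_inv ht, hinv, ← mul_assoc, invol_mul_self ht, one_mul])).symm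
  have h2 : z = t' := eq_of_not_twoRank h hz ho (hconj t' (by
    rw [invol_inv ho, hinv, mul_assoc, mul_assoc, invol_mul_self ho, mul_one])).symm
  rw [← h1, ← h2, invol_mul_self hz, orderOf_one] at hm
  omega

theorem sup_centralizer_of_iso {t : G} (h : ZStar.Reduction.Iso t) :
    Cfsg.oddCore G ⊔ Subgroup.centralizer ({t} : Set G) = ⊤ := by
  obtain ⟨N, hN, hodd, hmem⟩ := ZStar.UniqueCase.zcentral_of_iso h
  rw [Subgroup.eq_top_iff']
  intro g
  set t' := g * t * g⁻¹ with ht'
  have ht := h.1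
  have ho : orderOf t' = 2 := (orderOf_conj_eq g t).trans ht
  have hq : t' * t ∈ N := by
    have h1 := N.inv_mem (hmem g)
    have h2 : (t * g * t⁻¹ * g⁻¹)⁻¹ = t' * t := by
      rw [ht', invol_inv ht]
      simp only [mul_inv_rev, inv_inv, invol_inv ht, mul_assoc]
    rwa [h2] at h1
  clear_value t'
  obtain ⟨e, heN, hee, k, hk⟩ := RankOne.Involution.exists_sqrt hodd hq
  have hinv : t * e * t⁻¹ = e⁻¹ := by
    rw [hk, ← conj_pow, ← inv_pow]
    congr 1
    rw [mul_inv_rev, invol_inv ht, invol_inv ho, mul_assoc, mul_assoc, invol_mul_self ht, mul_one]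
  have hconj : e * t * e⁻¹ = t' := by
    rw [invol_inv ht] at hinv
    calc e * t * e⁻¹ = e * (t * e⁻¹) := by group
      _ = e * (t * (t * e * t)) := by rw [hinv]
      _ = (e * e) * ((t * t) * (e⁻¹ * e) * t) := by
          rw [inv_mul_cancel, mul_one, invol_mul_self ht, one_mul, ← mul_assoc t, ← mul_assoc t,
            invol_mul_self ht, one_mul]; group
      _ = t' := by rw [inv_mul_cancel, mul_one, invol_mul_self ht, one_mul, hee, mul_assoc,
            invol_mul_self ht, mul_one]
  have : e⁻¹ * g ∈ Subgroup.centralizer ({t} : Set G) := by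
    rw [Subgroup.mem_centralizer_singleton_iff]
    calc e⁻¹ * g * t = e⁻¹ * t' * g := by rw [ht']; group
      _ = e⁻¹ * (e * t * e⁻¹) * g := by rw [hconj]
      _ = t * (e⁻¹ * g) := by group
  have he : g = e * (e⁻¹ * g) := by group
  rw [he]
  exact Subgroup.mul_mem_sup ((ZStar.Elements.le_oddCore hodd) heN) this

end Cfsg.Agent.Lib.BenderConsumers23
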